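import Cfsg.Agent.Lib.KnownA.CosetInv

/-! Coset enumeration certificate for the presented HN. -/

set_option autoImplicit false
set_option maxRecDepth 100000

namespace CfsgLib.InvChar.SporHN.E1

open CfsgLib.InvChar.Coset CfsgLib.KnownA

/-- facts -/
noncomputable def facts : Tr := (.leaf 0x3f000010000110000400000500005000000000000000550000400004500002000030000020000250000100001500000)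
/-- justifications -/
noncomputable def just : Tr := (.leaf 0x10000300007000010000240c2c00c00800010000180001400001030b00200200004000030000100000000280100020000000000)
/-- relators -/
def rels : List (List ℕ) := [[2, 2, 2, 2, 2, 2], [0, 0, 2, 0, 0, 3], [1, 3, 0, 2, 1, 3, 0, 2, 1, 3, 0, 2], [1, 2, 2, 0, 2, 2, 2, 1, 2, 2, 0, 2, 2, 2, 1, 2, 2, 0, 2, 2, 2], [0, 2, 0, 2, 0, 2, 0, 2, 0, 2, 0, 2, 0, 2, 0, 2], [0, 2, 0, 2, 2, 2, 0, 2, 0, 2, 2, 2, 0, 2, 0, 2, 2, 2, 0, 2, 0, 2, 2, 2], [4, 4], [4, 0, 4, 0], [4, 2, 1, 3, 3, 1, 3, 1, 3, 4, 2, 0, 2, 0, 2, 2, 0, 3, 1, 1], [4, 3, 1, 3, 1, 3, 3, 3, 4, 2, 2, 2, 0, 2, 0, 2, 0, 3, 1, 3, 1, 3, 3, 3, 4, 2, 2, 2, 0, 2, 0, 2, 0, 3, 1,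 3, 1, 3, 3, 3, 4, 2, 2, 2, 0, 2, 0, 2, 0], [5, 5, 5, 5, 5], [1, 5, 0, 5, 5], [6, 3, 5, 2], [4, 5, 4, 5, 4, 5], [0, 0, 0, 0], [0, 4, 0, 4], [0, 0, 0, 4, 1, 4], [0, 0, 2, 0, 0, 3], [0, 0, 2, 1, 1, 3], [2, 2, 2, 2, 2, 2], [0, 0, 2, 0, 4, 1, 4, 3], [0, 0, 2, 1, 4, 0, 4, 3], [0, 0, 2, 2, 0, 0, 3, 3], [0, 0, 2, 2, 1, 1, 3, 3], [0, 0, 2, 4, 0, 0, 4, 3], [0, 0, 2, 4, 0, 4, 1, 3], [0, 0, 2, 4, 1, 1, 4, 3], [0, 0, 2, 4, 1, 4, 0, 3], [0, 0, 3, 0, 4, 1, 4, 2], [0, 0, 3, 1, 4, 0, 4, 2], [0, 0, 3, 4, 0, 0, 4, 2], [0, 0, 3, 4, 0, 4, 1, 2], [0, 0, 3, 4, 1, 1, 4, 2], [0, 0, 3, 4, 1, 4, 0, 2], [0, 0, 2, 2, 0, 4, 1, 4, 3, 3], [0, 0, 2, 2, 1, 4, 0, 4, 3, 3], [0, 0, 2, 2, 2, 0, 0,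 3, 3, 3], [0, 0, 2, 2, 2, 1, 1, 3, 3, 3], [0, 0, 2, 2, 4, 0, 0, 4, 3, 3], [0, 0, 2, 2, 4, 0, 4, 1, 3, 3], [0, 0, 2, 2, 4, 1, 1, 4, 3, 3], [0, 0, 2, 2, 4, 1, 4, 0, 3, 3], [0, 0, 2, 4, 2, 0, 0, 3, 4, 3], [0, 0, 2, 4, 2, 1, 1, 3, 4, 3], [0, 0, 2, 4, 3, 0, 0, 2, 4, 3], [0, 0, 2, 4, 3, 1, 1, 2, 4, 3], [0, 0, 3, 3, 0, 4, 1, 4, 2, 2], [0, 0, 3, 3, 1, 4, 0, 4, 2, 2], [0, 0, 3, 3, 4, 0, 0, 4, 2, 2], [0, 0, 3, 3, 4, 0, 4, 1, 2, 2], [0, 0, 3, 3, 4, 1, 1, 4, 2, 2], [0, 0, 3, 3, 4, 1, 4, 0, 2, 2], [0, 0, 3, 4, 2, 0, 0, 3, 4, 2], [0, 0, 3, 4, 2, 1, 1, 3, 4, 2], [0, 0, 4, 2, 0, 4, 1, 4, 3, 4], [0, 0, 4, 2, 1, 4, 0, 4, 3, 4], [0, 0, 4, 2, 4, 0, 4, 1, 3, 4], [0, 0, 4, 2, 4, 1,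 4, 0, 3, 4], [0, 0, 4, 3, 0, 4, 1, 4, 2, 4], [0, 0, 4, 3, 1, 4, 0, 4, 2, 4], [0, 0, 4, 3, 4, 0, 4, 1, 2, 4], [0, 0, 4, 3, 4, 1, 4, 0, 2, 4], [0, 0, 2, 2, 2, 0, 4, 1, 4, 3, 3, 3], [0, 0, 2, 2, 2, 1, 4, 0, 4, 3, 3, 3], [0, 0, 2, 2, 2, 4, 0, 4, 1, 3, 3, 3], [0, 0, 2, 2, 2, 4, 1, 4, 0, 3, 3, 3], [0, 0, 2, 2, 4, 2, 0, 0, 3, 4, 3, 3], [0, 0, 2, 2, 4, 2, 1, 1, 3, 4, 3, 3], [0, 0, 2, 2, 4, 3, 0, 0, 2, 4, 3, 3], [0, 0, 2, 2, 4, 3, 1, 1, 2, 4, 3, 3], [0, 0, 2, 4, 2, 0, 4, 1, 4, 3, 4, 3], [0, 0, 2, 4, 2, 1, 4, 0, 4, 3, 4, 3], [0, 0, 2, 4, 2, 2, 0, 0, 3, 3, 4, 3], [0, 0, 2, 4, 2, 2, 1, 1, 3, 3, 4, 3], [0, 0, 2, 4, 2, 4, 0, 0, 4, 3, 4, 3], [0, 0, 2, 4, 2, 4, 0, 4, 1, 3, 4,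 3], [0, 0, 2, 4, 2, 4, 1, 1, 4, 3, 4, 3], [0, 0, 2, 4, 2, 4, 1, 4, 0, 3, 4, 3], [0, 0, 2, 4, 3, 0, 4, 1, 4, 2, 4, 3], [0, 0, 2, 4, 3, 1, 4, 0, 4, 2, 4, 3], [0, 0, 2, 4, 3, 4, 0, 0, 4, 2, 4, 3], [0, 0, 2, 4, 3, 4, 0, 4, 1, 2, 4, 3], [0, 0, 2, 4, 3, 4, 1, 1, 4, 2, 4, 3], [0, 0, 2, 4, 3, 4, 1, 4, 0, 2, 4, 3], [0, 0, 3, 3, 3, 4, 0, 0, 4, 2, 2, 2], [0, 0, 3, 3, 3, 4, 1, 1, 4, 2, 2, 2], [0, 0, 3, 3, 4, 2, 0, 0, 3, 4, 2, 2], [0, 0, 3, 3, 4, 2, 1, 1, 3, 4, 2, 2], [0, 0, 3, 4, 2, 0, 4, 1, 4, 3, 4, 2], [0, 0, 3, 4, 2, 1, 4, 0, 4, 3, 4, 2], [0, 0, 3, 4, 2, 4, 0, 0, 4, 3, 4, 2], [0, 0, 3, 4, 2, 4, 0, 4, 1, 3, 4, 2], [0, 0, 3, 4, 2, 4, 1, 1, 4, 3, 4, 2], [0, 0, 3, 4, 2, 4,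 1, 4, 0, 3, 4, 2], [0, 0, 3, 4, 3, 0, 4, 1, 4, 2, 4, 2], [0, 0, 3, 4, 3, 1, 4, 0, 4, 2, 4, 2], [0, 0, 3, 4, 3, 4, 0, 0, 4, 2, 4, 2], [0, 0, 3, 4, 3, 4, 0, 4, 1, 2, 4, 2], [0, 0, 3, 4, 3, 4, 1, 1, 4, 2, 4, 2], [0, 0, 3, 4, 3, 4, 1, 4, 0, 2, 4, 2], [0, 0, 4, 2, 2, 0, 4, 1, 4, 3, 3, 4], [0, 0, 4, 2, 2, 1, 4, 0, 4, 3, 3, 4], [0, 0, 4, 2, 2, 4, 0, 4, 1, 3, 3, 4], [0, 0, 4, 2, 2, 4, 1, 4, 0, 3, 3, 4], [0, 0, 4, 3, 3, 0, 4, 1, 4, 2, 2, 4], [0, 0, 4, 3, 3, 1, 4, 0, 4, 2, 2, 4], [0, 0, 4, 3, 3, 4, 0, 4, 1, 2, 2, 4], [0, 0, 4, 3, 3, 4, 1, 4, 0, 2, 2, 4], [0, 2, 0, 3, 0, 2, 0, 3, 0, 2, 1, 3], [0, 2, 0, 3, 0, 2, 0, 3, 1, 2, 0, 3], [0, 2, 0, 3, 0, 2, 1, 3, 1, 2, 1, 3], [0,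 2, 0, 3, 1, 2, 0, 3, 1, 2, 1, 3], [0, 2, 0, 3, 1, 2, 1, 3, 0, 2, 1, 3], [0, 2, 0, 3, 4, 2, 0, 3, 0, 2, 4, 3], [0, 2, 0, 3, 4, 2, 1, 3, 1, 2, 4, 3], [0, 2, 0, 4, 3, 0, 4, 2, 1, 4, 3, 4], [0, 2, 0, 4, 3, 0, 4, 2, 4, 0, 3, 4], [0, 2, 0, 4, 3, 1, 4, 2, 0, 4, 3, 4], [0, 2, 0, 4, 3, 1, 4, 2, 4, 1, 3, 4], [0, 2, 0, 4, 3, 4, 0, 2, 4, 1, 3, 4], [0, 2, 0, 4, 3, 4, 1, 2, 4, 0, 3, 4], [0, 2, 1, 3, 4, 2, 0, 3, 1, 2, 4, 3], [0, 2, 1, 3, 4, 2, 1, 3, 0, 2, 4, 3], [0, 2, 1, 4, 3, 0, 4, 2, 0, 4, 3, 4], [0, 2, 1, 4, 3, 1, 4, 2, 1, 4, 3, 4], [0, 2, 1, 4, 3, 4, 0, 2, 4, 0, 3, 4], [0, 2, 1, 4, 3, 4, 1, 2, 4, 1, 3, 4], [0, 2, 4, 0, 3, 0, 4, 2, 0, 4, 3, 4], [0, 2, 4, 0, 3, 0, 4, 2,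 4, 1, 3, 4], [0, 2, 4, 0, 3, 4, 1, 2, 0, 4, 3, 4], [0, 2, 4, 1, 3, 0, 4, 2, 1, 4, 3, 4], [0, 2, 4, 1, 3, 0, 4, 2, 4, 0, 3, 4], [0, 2, 4, 1, 3, 4, 1, 2, 1, 4, 3, 4], [0, 2, 4, 3, 1, 2, 0, 3, 4, 2, 1, 3], [0, 2, 4, 3, 1, 2, 1, 3, 4, 2, 0, 3], [0, 2, 4, 3, 4, 2, 1, 3, 4, 2, 4, 3], [0, 3, 0, 4, 2, 1, 4, 3, 0, 4, 2, 4], [0, 3, 0, 4, 2, 1, 4, 3, 4, 1, 2, 4], [0, 3, 0, 4, 2, 4, 0, 3, 4, 1, 2, 4], [0, 4, 2, 0, 4, 3, 0, 4, 2, 4, 1, 3], [0, 4, 2, 0, 4, 3, 4, 1, 2, 0, 4, 3], [0, 4, 2, 0, 4, 3, 4, 1, 2, 4, 1, 3], [2, 4, 3, 4, 2, 4, 3, 4, 2, 4, 3, 4], [0, 0, 0, 2, 4, 3, 4, 2, 0, 3, 4, 2, 4, 3], [0, 0, 0, 3, 4, 2, 4, 3, 0, 2, 4, 3, 4, 2], [0, 0, 2, 2, 2, 4, 2, 0, 0, 3, 4,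 3, 3, 3], [0, 0, 2, 2, 2, 4, 2, 1, 1, 3, 4, 3, 3, 3], [0, 0, 2, 2, 2, 4, 3, 0, 0, 2, 4, 3, 3, 3], [0, 0, 2, 2, 2, 4, 3, 1, 1, 2, 4, 3, 3, 3], [0, 0, 2, 2, 4, 2, 0, 4, 1, 4, 3, 4, 3, 3], [0, 0, 2, 2, 4, 2, 1, 4, 0, 4, 3, 4, 3, 3], [0, 0, 2, 2, 4, 2, 2, 0, 0, 3, 3, 4, 3, 3], [0, 0, 2, 2, 4, 2, 2, 1, 1, 3, 3, 4, 3, 3], [0, 0, 2, 2, 4, 2, 4, 0, 0, 4, 3, 4, 3, 3], [0, 0, 2, 2, 4, 2, 4, 0, 4, 1, 3, 4, 3, 3], [0, 0, 2, 2, 4, 2, 4, 1, 1, 4, 3, 4, 3, 3], [0, 0, 2, 2, 4, 2, 4, 1, 4, 0, 3, 4, 3, 3], [0, 0, 2, 2, 4, 3, 0, 4, 1, 4, 2, 4, 3, 3], [0, 0, 2, 2, 4, 3, 1, 4, 0, 4, 2, 4, 3, 3], [0, 0, 2, 2, 4, 3, 3, 0, 0, 2, 2, 4, 3, 3], [0, 0, 2, 2, 4, 3, 3, 1, 1, 2, 2, 4, 3, 3],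 [0, 0, 2, 2, 4, 3, 4, 0, 0, 4, 2, 4, 3, 3], [0, 0, 2, 2, 4, 3, 4, 0, 4, 1, 2, 4, 3, 3], [0, 0, 2, 2, 4, 3, 4, 1, 1, 4, 2, 4, 3, 3], [0, 0, 2, 2, 4, 3, 4, 1, 4, 0, 2, 4, 3, 3], [0, 0, 2, 4, 2, 2, 0, 4, 1, 4, 3, 3, 4, 3], [0, 0, 2, 4, 2, 2, 1, 4, 0, 4, 3, 3, 4, 3], [0, 0, 2, 4, 2, 2, 2, 0, 0, 3, 3, 3, 4, 3], [0, 0, 2, 4, 2, 2, 2, 1, 1, 3, 3, 3, 4, 3], [0, 0, 2, 4, 2, 2, 4, 0, 0, 4, 3, 3, 4, 3], [0, 0, 2, 4, 2, 2, 4, 0, 4, 1, 3, 3, 4, 3], [0, 0, 2, 4, 2, 2, 4, 1, 1, 4, 3, 3, 4, 3], [0, 0, 2, 4, 2, 2, 4, 1, 4, 0, 3, 3, 4, 3], [0, 0, 2, 4, 2, 4, 2, 0, 0, 3, 4, 3, 4, 3], [0, 0, 2, 4, 2, 4, 2, 1, 1, 3, 4, 3, 4, 3], [0, 0, 2, 4, 2, 4, 3, 0, 0, 2, 4, 3, 4, 3], [0, 0,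 2, 4, 2, 4, 3, 1, 1, 2, 4, 3, 4, 3], [0, 0, 2, 4, 3, 3, 0, 4, 1, 4, 2, 2, 4, 3], [0, 0, 2, 4, 3, 3, 1, 4, 0, 4, 2, 2, 4, 3], [0, 0, 2, 4, 3, 3, 4, 0, 0, 4, 2, 2, 4, 3], [0, 0, 2, 4, 3, 3, 4, 0, 4, 1, 2, 2, 4, 3], [0, 0, 2, 4, 3, 3, 4, 1, 1, 4, 2, 2, 4, 3], [0, 0, 2, 4, 3, 3, 4, 1, 4, 0, 2, 2, 4, 3], [0, 0, 3, 3, 3, 4, 2, 0, 0, 3, 4, 2, 2, 2], [0, 0, 3, 3, 3, 4, 2, 1, 1, 3, 4, 2, 2, 2], [0, 0, 3, 3, 4, 2, 0, 4, 1, 4, 3, 4, 2, 2], [0, 0, 3, 3, 4, 2, 1, 4, 0, 4, 3, 4, 2, 2], [0, 0, 3, 3, 4, 2, 2, 0, 0, 3, 3, 4, 2, 2], [0, 0, 3, 3, 4, 2, 2, 1, 1, 3, 3, 4, 2, 2], [0, 0, 3, 3, 4, 2, 4, 0, 0, 4, 3, 4, 2, 2], [0, 0, 3, 3, 4, 2, 4, 0, 4, 1, 3, 4, 2, 2], [0, 0, 3, 3, 4,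 2, 4, 1, 1, 4, 3, 4, 2, 2], [0, 0, 3, 3, 4, 2, 4, 1, 4, 0, 3, 4, 2, 2], [0, 0, 3, 3, 4, 3, 0, 4, 1, 4, 2, 4, 2, 2], [0, 0, 3, 3, 4, 3, 1, 4, 0, 4, 2, 4, 2, 2], [0, 0, 3, 3, 4, 3, 4, 0, 0, 4, 2, 4, 2, 2], [0, 0, 3, 3, 4, 3, 4, 0, 4, 1, 2, 4, 2, 2], [0, 0, 3, 3, 4, 3, 4, 1, 1, 4, 2, 4, 2, 2], [0, 0, 3, 3, 4, 3, 4, 1, 4, 0, 2, 4, 2, 2], [0, 0, 3, 4, 2, 2, 0, 4, 1, 4, 3, 3, 4, 2], [0, 0, 3, 4, 2, 2, 1, 4, 0, 4, 3, 3, 4, 2], [0, 0, 3, 4, 2, 2, 4, 0, 0, 4, 3, 3, 4, 2], [0, 0, 3, 4, 2, 2, 4, 0, 4, 1, 3, 3, 4, 2], [0, 0, 3, 4, 2, 2, 4, 1, 1, 4, 3, 3, 4, 2], [0, 0, 3, 4, 2, 2, 4, 1, 4, 0, 3, 3, 4, 2], [0, 0, 3, 4, 2, 4, 2, 0, 0, 3, 4, 3, 4, 2], [0, 0, 3, 4, 2, 4, 2, 1,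 1, 3, 4, 3, 4, 2], [0, 0, 3, 4, 3, 3, 0, 4, 1, 4, 2, 2, 4, 2], [0, 0, 3, 4, 3, 3, 1, 4, 0, 4, 2, 2, 4, 2], [0, 0, 3, 4, 3, 3, 4, 0, 0, 4, 2, 2, 4, 2], [0, 0, 3, 4, 3, 3, 4, 0, 4, 1, 2, 2, 4, 2], [0, 0, 3, 4, 3, 3, 4, 1, 1, 4, 2, 2, 4, 2], [0, 0, 3, 4, 3, 3, 4, 1, 4, 0, 2, 2, 4, 2], [0, 0, 4, 2, 2, 2, 0, 4, 1, 4, 3, 3, 3, 4], [0, 1], [1, 0], [2, 3], [3, 2], [5, 6], [6, 5]]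
/-- subgroup words -/
def subs : List (List ℕ) := [[0], [2], [4]]
/-- certificate -/
noncomputable def cert : CosetInv.Cert := ⟨9, 5, facts, just, rels, subs, 0xfedcba9875642301⟩
/-- facts along the walk -/
noncomputable def goalPath : ℕ := 0x8000020000100000
/-- the word -/
def goal : List ℕ := [5, 5, 0, 6]

end CfsgLib.InvChar.SporHN.E1
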